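import Groth.Prelude.Def_W4c6equivkfinstabCyc
import Mathlib.RingTheory.Polynomial.Cyclotomic.Roots
import Mathlib.RingTheory.IntegralDomain
import Mathlib.RingTheory.Ideal.Quotient.Basic
import Mathlib.GroupTheory.OrderOfElement

/-!
The cyclotomic quotients of a group ring: comaximality and separation.
-/

set_option autoImplicit false

universe u v

open W4c6equivkfinstab Polynomial

namespace Groth.Agent.H20Cyc

noncomputable section

open scoped Classical

variable {Λ : Type u} [CommRing Λ] {M : Type v} [AddCommGroup M]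

/-- a group element in the group ring -/
def e (Λ : Type u) [CommRing Λ] {M : Type*} [AddCommGroup M] (a : M) : AddMonoidAlgebra Λ M :=
  AddMonoidAlgebra.single a 1

theorem e_zero : e Λ (0 : M) = 1 := rfl

theorem e_add (a b : M) : e Λ (a + b) = e Λ a * e Λ b := by
  rw [e, e, e, AddMonoidAlgebra.single_mul_single, one_mul]

theorem e_nsmul (n : ℕ) (a : M) : e Λ (n • a) = e Λ a ^ n := by
  induction n with
  | zero => rw [zero_nsmul, pow_zero, e_zero]
  | succ n ih => rw [succ_nsmul, pow_succ, e_add, ih]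

theorem quotMap_e (B : AddSubgroup M) (a : M) : quotMap Λ M B (e Λ a) = e Λ (QuotientAddGroup.mk' B a) :=
  AddMonoidAlgebra.mapDomain_single

theorem quotMap_algebraMap (B : AddSubgroup M) (r : Λ) :
    quotMap Λ M B (algebraMap Λ _ r) = algebraMap Λ _ r := by
  rw [quotMap, AddMonoidAlgebra.coe_algebraMap, AddMonoidAlgebra.coe_algebraMap]
  exact AddMonoidAlgebra.mapDomain_single.trans (by simp)

theorem quotMap_aeval (B : AddSubgroup M) (x : AddMonoidAlgebra Λ M) (P : Λ[X]) :
    quotMap Λ M B (aeval x P) = aeval (quotMap Λ M B x) P := by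
  rw [aeval_def, aeval_def, hom_eval₂]
  exact congrArg (fun f => eval₂ f (quotMap Λ M B x) P) (RingHom.ext (quotMap_algebraMap B))

theorem quotMap_surjective (B : AddSubgroup M) : Function.Surjective (quotMap Λ M B) := by
  intro y
  induction y using AddMonoidAlgebra.induction_on with
  | of c =>
    obtain ⟨a, rfl⟩ := QuotientAddGroup.mk'_surjective B c
    exact ⟨e Λ a, quotMap_e B a⟩
  | add y z hy hz =>
    obtain ⟨a, rfl⟩ := hy
    obtain ⟨b, rfl⟩ := hz
    exact ⟨a + b, map_add _ _ _⟩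
  | smul r y hy =>
    obtain ⟨a, rfl⟩ := hy
    exact ⟨algebraMap Λ _ r * a, by rw [map_mul, quotMap_algebraMap, Algebra.smul_def]⟩

theorem cycQuotMap_surjective (B : AddSubgroup M) : Function.Surjective (cycQuotMap Λ M B) :=
  Ideal.Quotient.mk_surjective.comp (quotMap_surjective B)

theorem ker_quotMap_le (B : AddSubgroup M) :
    RingHom.ker (quotMap Λ M B) ≤ RingHom.ker (cycQuotMap Λ M B) := fun x hx => by
  rw [RingHom.mem_ker] at hx ⊢
  rw [cycQuotMap, RingHom.comp_apply, hx, map_zero]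

theorem e_sub_one_mem {B : AddSubgroup M} {b : M} (hb : b ∈ B) :
    e Λ b - 1 ∈ RingHom.ker (quotMap Λ M B) := by
  rw [RingHom.mem_ker, map_sub, map_one, quotMap_e, show QuotientAddGroup.mk' B b = 0 from
    (QuotientAddGroup.eq_zero_iff b).mpr hb, e_zero, sub_self]

theorem aeval_mem {B : AddSubgroup M} {g : M} (hg : AddSubgroup.zmultiples (QuotientAddGroup.mk' B g) = ⊤) :
    aeval (e Λ g) (cyclotomic (Nat.card (M ⧸ B)) Λ) ∈ RingHom.ker (cycQuotMap Λ M B) := by
  rw [RingHom.mem_ker, cycQuotMap, RingHom.comp_apply, quotMap_aeval, quotMap_e, Ideal.Quotient.eq_zero_iff_mem]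
  exact Ideal.subset_span ⟨_, hg, rfl⟩

/-- a generator of a cyclic quotient generates by multiples -/
theorem exists_nsmul_eq {C : Type*} [AddCommGroup C] [Finite C] {g : C} (hg : AddSubgroup.zmultiples g = ⊤) (c : C) :
    ∃ j : ℕ, j • g = c :=
  mem_multiples_iff_mem_zmultiples.mpr (hg ▸ AddSubgroup.mem_top c)

theorem addOrderOf_gen {C : Type*} [AddCommGroup C] [Finite C] {g : C} (hg : AddSubgroup.zmultiples g = ⊤) :
    addOrderOf g = Nat.card C := by
  rw [← Nat.card_zmultiples, hg, AddSubgroup.card_top]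

theorem isUnit_cast_of_dvd {S : Type*} [CommRing S] (f : Λ →+* S) {m n : ℕ} (h : m ∣ n) (hn : IsUnit (n : Λ)) :
    IsUnit (m : S) := by
  obtain ⟨d, rfl⟩ := h
  have := hn.map f
  rw [map_natCast, Nat.cast_mul] at this
  exact isUnit_of_mul_isUnit_left this

section Char

variable {k : Type*} [Field k] (φ : AddMonoidAlgebra Λ M →+* k)

/-- the kernel of a character -/
def charKer : AddSubgroup M where
  carrier := {a | φ (e Λ a) = 1}
  zero_mem' := by simp [e_zero]
  add_mem' {a b} ha hb := by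
    simp only [Set.mem_ofPred_eq] at ha hb ⊢
    rw [e_add, map_mul, ha, hb, one_mul]
  neg_mem' {a} ha := by
    simp only [Set.mem_ofPred_eq] at ha ⊢
    have h : φ (e Λ (a + -a)) = 1 := by rw [add_neg_cancel, e_zero, map_one]
    rwa [e_add, map_mul, ha, one_mul] at h

theorem mem_charKer {a : M} : a ∈ charKer φ ↔ φ (e Λ a) = 1 := Iff.rfl

theorem le_charKer {B : AddSubgroup M} (h : RingHom.ker (quotMap Λ M B) ≤ RingHom.ker φ) : B ≤ charKer φ := by
  intro b hb
  have := RingHom.mem_ker.mp (h (e_sub_one_mem hb))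
  rw [map_sub, map_one, sub_eq_zero] at this
  exact this

theorem isAddCyclic_charKer {B₀ : AddSubgroup M} [B₀.FiniteIndex] (hle : B₀ ≤ charKer φ) :
    (charKer φ).FiniteIndex ∧ IsAddCyclic (M ⧸ charKer φ) := by
  haveI : (charKer φ).FiniteIndex := AddSubgroup.finiteIndex_of_le hle
  refine ⟨inferInstance, ?_⟩
  haveI : Finite (M ⧸ charKer φ) := AddSubgroup.finite_quotient_of_finiteIndex
  let χ : Multiplicative M →* k :=
    { toFun := fun a => φ (e Λ a.toAdd)
      map_one' := by simp [e_zero]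
      map_mul' := fun a b => by simp [e_add] }
  let χ' : Multiplicative (M ⧸ charKer φ) →* k :=
    { toFun := fun c => φ (e Λ (Quotient.out c.toAdd))
      map_one' := (QuotientAddGroup.eq_zero_iff (N := charKer φ) _).mp (Quotient.out_eq _)
      map_mul' := fun a b => by
        rw [← map_mul, ← e_add]
        have hd : -(Quotient.out a.toAdd + Quotient.out b.toAdd) + Quotient.out (a * b).toAdd ∈ charKer φ :=
          QuotientAddGroup.eq.mp (by
            rw [QuotientAddGroup.mk_add, QuotientAddGroup.out_eq', QuotientAddGroup.out_eq', QuotientAddGroup.out_eq']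
            rfl)
        conv_lhs => rw [← add_neg_cancel_left (Quotient.out a.toAdd + Quotient.out b.toAdd) (Quotient.out (a * b).toAdd),
          e_add, map_mul, (mem_charKer φ).mp hd, mul_one] }
  have hinj : Function.Injective χ' := by
    intro a b h
    refine Multiplicative.toAdd.injective ?_
    have h' : φ (e Λ (Quotient.out a.toAdd)) = φ (e Λ (Quotient.out b.toAdd)) := h
    rw [← QuotientAddGroup.out_eq' a.toAdd, ← QuotientAddGroup.out_eq' b.toAdd, QuotientAddGroup.eq]
    have h1 : φ (e Λ (-Quotient.out a.toAdd)) * φ (e Λ (Quotient.out a.toAdd)) = 1 := by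
      rw [← map_mul, ← e_add, neg_add_cancel, e_zero, map_one]
    rw [mem_charKer, e_add, map_mul, ← h', h1]
  haveI := isCyclic_of_injective_ringHom χ' hinj
  exact isCyclic_multiplicative_iff.mp inferInstance

theorem charKer_eq {B : AddSubgroup M} [B.FiniteIndex] [IsAddCyclic (M ⧸ B)] (hn : IsUnit (B.index : Λ))
    (h : RingHom.ker (cycQuotMap Λ M B) ≤ RingHom.ker φ) : charKer φ = B := by
  haveI : Finite (M ⧸ B) := AddSubgroup.finite_quotient_of_finiteIndex
  have hle := le_charKer φ ((ker_quotMap_le B).trans h)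
  refine le_antisymm (fun a ha => ?_) hle
  obtain ⟨c, hc⟩ := IsAddCyclic.exists_generator (α := M ⧸ B)
  obtain ⟨g, rfl⟩ := QuotientAddGroup.mk'_surjective B c
  have hg : AddSubgroup.zmultiples (QuotientAddGroup.mk' B g) = ⊤ := eq_top_iff.mpr fun x _ => hc x
  haveI : NeZero ((Nat.card (M ⧸ B) : ℕ) : k) :=
    ⟨(isUnit_cast_of_dvd (φ.comp (algebraMap Λ _)) (dvd_refl _) hn).ne_zero⟩
  have hroot : IsPrimitiveRoot (φ (e Λ g)) (Nat.card (M ⧸ B)) := by
    rw [← isRoot_cyclotomic_iff, IsRoot.def, ← map_cyclotomic (Nat.card (M ⧸ B)) (φ.comp (algebraMap Λ _)),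
      eval_map]
    have h' := RingHom.mem_ker.mp (h (aeval_mem hg))
    rwa [aeval_def, hom_eval₂] at h'
  obtain ⟨j, hj⟩ := exists_nsmul_eq hg (QuotientAddGroup.mk' B a)
  have hb : -(j • g) + a ∈ B := QuotientAddGroup.eq.mp (by rw [QuotientAddGroup.mk_nsmul]; exact hj)
  have h1 : φ (e Λ g) ^ j = 1 := by
    rw [← map_pow, ← e_nsmul]
    have h2 : φ (e Λ (j • g + (-(j • g) + a))) = 1 := by rw [add_neg_cancel_left]; exact ha
    rwa [e_add, map_mul, show φ (e Λ (-(j • g) + a)) = 1 from hle hb, mul_one] at h2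
  obtain ⟨d, rfl⟩ := hroot.dvd_of_pow_eq_one j h1
  have hj0 : QuotientAddGroup.mk' B a = 0 := by rw [← hj, mul_comm, mul_nsmul', card_nsmul_eq_zero', nsmul_zero]
  exact (QuotientAddGroup.eq_zero_iff a).mp hj0

end Char

theorem sup_ker_eq_top {B B' : AddSubgroup M} [B.FiniteIndex] [B'.FiniteIndex] [IsAddCyclic (M ⧸ B)]
    [IsAddCyclic (M ⧸ B')] (hn : IsUnit (B.index : Λ)) (hn' : IsUnit (B'.index : Λ)) (hne : B ≠ B') :
    RingHom.ker (cycQuotMap Λ M B) ⊔ RingHom.ker (cycQuotMap Λ M B') = ⊤ := by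
  by_contra h
  obtain ⟨m, hm, hle⟩ := Ideal.exists_le_maximal _ h
  letI := Ideal.Quotient.field m
  have hker : RingHom.ker (Ideal.Quotient.mk m) = m := Ideal.mk_ker
  exact hne ((charKer_eq (Ideal.Quotient.mk m) hn (hker.symm ▸ le_sup_left.trans hle)).symm.trans
    (charKer_eq (Ideal.Quotient.mk m) hn' (hker.symm ▸ le_sup_right.trans hle)))

theorem sup_quotMap_eq_top {B₀ B : AddSubgroup M} [B.FiniteIndex] [IsAddCyclic (M ⧸ B)]
    (hn : IsUnit (B.index : Λ)) (hle : ¬ B₀ ≤ B) :
    RingHom.ker (quotMap Λ M B₀) ⊔ RingHom.ker (cycQuotMap Λ M B) = ⊤ := by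
  by_contra h
  obtain ⟨m, hm, hle'⟩ := Ideal.exists_le_maximal _ h
  letI := Ideal.Quotient.field m
  have hker : RingHom.ker (Ideal.Quotient.mk m) = m := Ideal.mk_ker
  refine hle ?_
  rw [← charKer_eq (Ideal.Quotient.mk m) hn (hker.symm ▸ le_sup_right.trans hle')]
  exact le_charKer _ (hker.symm ▸ le_sup_left.trans hle')

section Separation

variable (B₀ : AddSubgroup M) [B₀.FiniteIndex] (B : AddSubgroup M)

/-- the norm element of `B/B₀` -/
def normEl : AddMonoidAlgebra Λ M :=
  haveI : Finite (M ⧸ B₀) := AddSubgroup.finite_quotient_of_finiteIndex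
  haveI := Fintype.ofFinite (M ⧸ B₀)
  ∑ q ∈ Finset.univ.filter (fun q => q ∈ B.map (QuotientAddGroup.mk' B₀)), e Λ (Quotient.out q)

theorem quotMap_normEl_mul_e {b : M} (hb : b ∈ B) :
    quotMap Λ M B₀ (normEl B₀ B * e Λ b) = quotMap Λ M B₀ (normEl B₀ B) := by
  haveI : Finite (M ⧸ B₀) := AddSubgroup.finite_quotient_of_finiteIndex
  letI := Fintype.ofFinite (M ⧸ B₀)
  have hq : ∀ q : M ⧸ B₀, quotMap Λ M B₀ (e Λ (Quotient.out q)) = e Λ q := fun q => by
    rw [quotMap_e, QuotientAddGroup.mk'_apply, QuotientAddGroup.out_eq']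
  simp only [normEl, map_mul, map_sum]
  rw [Finset.sum_congr rfl fun q _ => hq q, quotMap_e, Finset.sum_mul]
  simp only [← e_add]
  have hb' : QuotientAddGroup.mk' B₀ b ∈ B.map (QuotientAddGroup.mk' B₀) := AddSubgroup.mem_map_of_mem _ hb
  refine Finset.sum_equiv (Equiv.addRight (QuotientAddGroup.mk' B₀ b)) (fun q => ?_) (fun q _ => rfl)
  simp only [Finset.mem_filter, Finset.mem_univ, true_and, Equiv.coe_addRight]
  exact ⟨fun h => add_mem h hb', fun h => by simpa using sub_mem h hb'⟩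

theorem normEl_mul_mem (hle : B₀ ≤ B) {x : AddMonoidAlgebra Λ M} (hx : x ∈ RingHom.ker (quotMap Λ M B)) :
    normEl B₀ B * x ∈ RingHom.ker (quotMap Λ M B₀) := by
  haveI : B.FiniteIndex := AddSubgroup.finiteIndex_of_le hle
  haveI : Finite (M ⧸ B) := AddSubgroup.finite_quotient_of_finiteIndex
  letI := Fintype.ofFinite (M ⧸ B)
  let F : AddMonoidAlgebra Λ (M ⧸ B) → AddMonoidAlgebra Λ (M ⧸ B₀) := fun z =>
    ∑ c, z.coeff c • quotMap Λ M B₀ (normEl B₀ B * e Λ (Quotient.out c))
  have hF : ∀ y, quotMap Λ M B₀ (normEl B₀ B * y) = F (quotMap Λ M B y) := by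
    intro y
    induction y using AddMonoidAlgebra.induction_on with
    | of a =>
      show quotMap Λ M B₀ (normEl B₀ B * e Λ a) = F (quotMap Λ M B (e Λ a))
      rw [quotMap_e]
      simp only [F, e, AddMonoidAlgebra.coeff_single, Finsupp.single_apply, ite_smul, one_smul, zero_smul,
        Finset.sum_ite_eq, Finset.mem_univ, if_true]
      obtain ⟨b, hb, hab⟩ : ∃ b ∈ B, a = Quotient.out (QuotientAddGroup.mk' B a) + b :=
        ⟨-Quotient.out (QuotientAddGroup.mk' B a) + a,
          QuotientAddGroup.eq.mp (QuotientAddGroup.out_eq' _), by rw [add_neg_cancel_left]⟩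
      show quotMap Λ M B₀ (normEl B₀ B * e Λ a) = quotMap Λ M B₀ (normEl B₀ B * e Λ (Quotient.out (QuotientAddGroup.mk' B a)))
      conv_lhs => rw [hab, e_add, mul_comm (e Λ _) (e Λ b), ← mul_assoc, map_mul, quotMap_normEl_mul_e B₀ B hb, ← map_mul]
    | add y z hy hz =>
      rw [mul_add, map_add, map_add, hy, hz]
      simp only [F, AddMonoidAlgebra.coeff_add, Finsupp.add_apply, add_smul, Finset.sum_add_distrib]
    | smul r y hy =>
      rw [mul_smul_comm, Algebra.smul_def, map_mul, quotMap_algebraMap, hy, Algebra.smul_def r y, map_mul,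
        quotMap_algebraMap, ← Algebra.smul_def, ← Algebra.smul_def]
      simp only [F, AddMonoidAlgebra.coeff_smul_apply, Finset.smul_sum, smul_smul, smul_eq_mul]
  rw [RingHom.mem_ker, hF, RingHom.mem_ker.mp hx]
  simp [F]

/-- the product of the cofactors of the cyclotomic polynomial at the generators of `M/B` -/
def cofEl [B.FiniteIndex] : AddMonoidAlgebra Λ M :=
  haveI : Finite (M ⧸ B) := AddSubgroup.finite_quotient_of_finiteIndex
  haveI := Fintype.ofFinite (M ⧸ B)
  ∏ c ∈ Finset.univ.filter (fun c : M ⧸ B => AddSubgroup.zmultiples c = ⊤),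
    aeval (e Λ (Quotient.out c)) (∏ d ∈ (Nat.card (M ⧸ B)).properDivisors, cyclotomic d Λ)

theorem normEl_mul_cofEl_mul_mem [B.FiniteIndex] (hle : B₀ ≤ B) {x : AddMonoidAlgebra Λ M}
    (hx : x ∈ RingHom.ker (cycQuotMap Λ M B)) :
    normEl B₀ B * cofEl B * x ∈ RingHom.ker (quotMap Λ M B₀) := by
  haveI : Finite (M ⧸ B) := AddSubgroup.finite_quotient_of_finiteIndex
  letI := Fintype.ofFinite (M ⧸ B)
  let J : Ideal (AddMonoidAlgebra Λ M) := (RingHom.ker (quotMap Λ M B₀)).colon {normEl B₀ B * cofEl B}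
  have hJ : ∀ y, y ∈ J ↔ normEl B₀ B * cofEl B * y ∈ RingHom.ker (quotMap Λ M B₀) := fun y => by
    rw [Submodule.mem_colon_singleton, smul_eq_mul, mul_comm]
  have hcyc : cycIdeal Λ (M ⧸ B) ≤ J.map (quotMap Λ M B) := by
    refine Ideal.span_le.mpr ?_
    rintro _ ⟨c, hc, rfl⟩
    have himg : quotMap Λ M B (aeval (e Λ (Quotient.out c)) (cyclotomic (Nat.card (M ⧸ B)) Λ)) =
        aeval (e Λ c) (cyclotomic (Nat.card (M ⧸ B)) Λ) := by
      rw [quotMap_aeval, quotMap_e, QuotientAddGroup.mk'_apply, QuotientAddGroup.out_eq']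
    refine himg ▸ Ideal.mem_map_of_mem _ ((hJ _).mpr ?_)
    have hmem : c ∈ Finset.univ.filter (fun c : M ⧸ B => AddSubgroup.zmultiples c = ⊤) := by simp [hc]
    rw [cofEl, ← Finset.mul_prod_erase _ _ hmem]
    have hprod : aeval (e Λ (Quotient.out c)) (∏ d ∈ (Nat.card (M ⧸ B)).properDivisors, cyclotomic d Λ) *
        aeval (e Λ (Quotient.out c)) (cyclotomic (Nat.card (M ⧸ B)) Λ) ∈ RingHom.ker (quotMap Λ M B) := by
      rw [← map_mul, mul_comm, ← Finset.prod_insert (f := fun d => cyclotomic d Λ) Nat.self_notMem_properDivisors,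
        Nat.insert_self_properDivisors Nat.card_pos.ne', prod_cyclotomic_eq_X_pow_sub_one Nat.card_pos, map_sub,
        map_pow, aeval_X, map_one, RingHom.mem_ker, map_sub, map_pow, map_one, quotMap_e, ← e_nsmul,
        card_nsmul_eq_zero', e_zero, sub_self]
    have h := Ideal.mul_mem_right (∏ d ∈ (Finset.univ.filter (fun c : M ⧸ B => AddSubgroup.zmultiples c = ⊤)).erase c,
      aeval (e Λ (Quotient.out d)) (∏ i ∈ (Nat.card (M ⧸ B)).properDivisors, cyclotomic i Λ)) _
      (normEl_mul_mem B₀ B hle hprod)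
    convert h using 1
    ring
  have hx' : quotMap Λ M B x ∈ J.map (quotMap Λ M B) :=
    hcyc (Ideal.Quotient.eq_zero_iff_mem.mp (RingHom.mem_ker.mp hx))
  obtain ⟨y, hy, hyx⟩ := (Ideal.mem_map_iff_of_surjective _ (quotMap_surjective B)).mp hx'
  have h1 : normEl B₀ B * (x - y) ∈ RingHom.ker (quotMap Λ M B₀) :=
    normEl_mul_mem B₀ B hle (by rw [RingHom.mem_ker, map_sub, hyx, sub_self])
  rw [show normEl B₀ B * cofEl B * x = normEl B₀ B * cofEl B * y + cofEl B * (normEl B₀ B * (x - y)) by ring]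
  exact add_mem ((hJ _).mp hy) (Ideal.mul_mem_left _ _ h1)

theorem separation (hu : IsUnit (B₀.index : Λ)) {x : AddMonoidAlgebra Λ M}
    (hx : ∀ B : AddSubgroup M, B₀ ≤ B → IsAddCyclic (M ⧸ B) → x ∈ RingHom.ker (cycQuotMap Λ M B)) :
    x ∈ RingHom.ker (quotMap Λ M B₀) := by
  haveI : Finite (M ⧸ B₀) := AddSubgroup.finite_quotient_of_finiteIndex
  by_contra hne
  obtain ⟨m, hm, hJ⟩ := Ideal.exists_le_maximal ((RingHom.ker (quotMap Λ M B₀)).colon {x}) (fun h => hne (by
    have h1 : (1 : AddMonoidAlgebra Λ M) ∈ (RingHom.ker (quotMap Λ M B₀)).colon {x} := h ▸ Submodule.mem_top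
    rw [Submodule.mem_colon_singleton, one_smul] at h1
    exact h1))
  letI := Ideal.Quotient.field m
  let φ := Ideal.Quotient.mk m
  have hle : B₀ ≤ charKer φ := by
    refine le_charKer φ fun y hy => ?_
    refine RingHom.mem_ker.mpr (Ideal.Quotient.eq_zero_iff_mem.mpr (hJ ?_))
    rw [Submodule.mem_colon_singleton, smul_eq_mul]
    exact Ideal.mul_mem_right _ _ hy
  obtain ⟨hfin, hcyc⟩ := isAddCyclic_charKer φ hle
  haveI : Finite (M ⧸ charKer φ) := AddSubgroup.finite_quotient_of_finiteIndex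
  letI := Fintype.ofFinite (M ⧸ charKer φ)
  have hs : normEl B₀ (charKer φ) * cofEl (charKer φ) ∈ m := hJ (by
    rw [Submodule.mem_colon_singleton, smul_eq_mul]
    exact normEl_mul_cofEl_mul_mem B₀ _ hle (hx _ hle hcyc))
  have hunit : ∀ n : ℕ, n ∣ B₀.index → (n : AddMonoidAlgebra Λ M ⧸ m) ≠ 0 := fun n hn =>
    (isUnit_cast_of_dvd (φ.comp (algebraMap Λ _)) hn hu).ne_zero
  have h0 : φ (normEl B₀ (charKer φ)) * φ (cofEl (charKer φ)) = 0 := by
    rw [← map_mul]; exact Ideal.Quotient.eq_zero_iff_mem.mpr hs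
  rcases mul_eq_zero.mp h0 with h | h
  · -- the norm element is a non-zero integer
    letI := Fintype.ofFinite (M ⧸ B₀)
    have hone : ∀ q ∈ Finset.univ.filter (fun q => q ∈ (charKer φ).map (QuotientAddGroup.mk' B₀)),
        φ (e Λ (Quotient.out q)) = 1 := by
      intro q hq
      obtain ⟨b, hb, rfl⟩ := (Finset.mem_filter.mp hq).2
      have hd : -b + Quotient.out (QuotientAddGroup.mk' B₀ b) ∈ charKer φ :=
        hle (QuotientAddGroup.eq.mp (QuotientAddGroup.out_eq' _).symm)
      have := add_mem hb hd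
      rwa [add_neg_cancel_left] at this
    rw [normEl, map_sum, Finset.sum_congr rfl hone, Finset.sum_const, nsmul_one] at h
    refine hunit _ ?_ h
    rw [AddSubgroup.index_eq_card, ← Fintype.card_subtype, ← Nat.card_eq_fintype_card]
    exact ((charKer φ).map (QuotientAddGroup.mk' B₀)).card_addSubgroup_dvd_card
  · rw [cofEl, map_prod, Finset.prod_eq_zero_iff] at h
    obtain ⟨c, hc, hc0⟩ := h
    have hgen := (Finset.mem_filter.mp hc).2
    have hζ : IsPrimitiveRoot (φ (e Λ (Quotient.out c))) (Nat.card (M ⧸ charKer φ)) := by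
      refine (IsPrimitiveRoot.iff_def _ _).mpr ⟨?_, fun l hl => ?_⟩
      · rw [← map_pow, ← e_nsmul, ← mem_charKer, ← QuotientAddGroup.eq_zero_iff, QuotientAddGroup.mk_nsmul,
          QuotientAddGroup.out_eq', card_nsmul_eq_zero']
      · rw [← map_pow, ← e_nsmul, ← mem_charKer, ← QuotientAddGroup.eq_zero_iff, QuotientAddGroup.mk_nsmul,
          QuotientAddGroup.out_eq', ← addOrderOf_dvd_iff_nsmul_eq_zero, addOrderOf_gen hgen] at hl
        exact hl
    rw [aeval_def, hom_eval₂, eval₂_finset_prod, Finset.prod_eq_zero_iff] at hc0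
    obtain ⟨d, hd, hd0⟩ := hc0
    rw [Nat.mem_properDivisors] at hd
    haveI : NeZero ((d : ℕ) : AddMonoidAlgebra Λ M ⧸ m) :=
      ⟨hunit d (hd.1.trans (AddSubgroup.index_eq_card (H := charKer φ) ▸ AddSubgroup.index_dvd_of_le hle))⟩
    rw [← eval_map, map_cyclotomic] at hd0
    exact hd.2.ne' (hζ.unique (isRoot_cyclotomic_iff.mp hd0))

end Separation

end

end Groth.Agent.H20Cyc
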