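import Groth.Agent.H20Cyc.Basic
import Mathlib.RingTheory.Ideal.Quotient.Operations

/-!
Localisations of group-ring modules at dual cyclic subgroups.
-/

set_option autoImplicit false
set_option maxHeartbeats 400000

universe u v w

open W4c6equivkfinstab

namespace Groth.Agent.H20Cyc

noncomputable section

variable {Λ : Type u} [CommRing Λ] {M : Type v} [AddCommGroup M]

theorem mem_locSubmonoid_iff (B : AddSubgroup M) (x : AddMonoidAlgebra Λ M) :
    x ∈ locSubmonoid Λ M B ↔ cycQuotMap Λ M B x = 1 := Iff.rfl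

theorem smul_cycQuot (B : AddSubgroup M) (r : AddMonoidAlgebra Λ M) (y : CycQuot Λ (M ⧸ B)) :
    r • y = cycQuotMap Λ M B r * y := Algebra.smul_def r y

theorem smul_quot (B : AddSubgroup M) (r : AddMonoidAlgebra Λ M) (y : AddMonoidAlgebra Λ (M ⧸ B)) :
    r • y = quotMap Λ M B r * y := Algebra.smul_def r y

theorem subsingleton_localized {R : Type*} [CommRing R] {S : Submonoid R} {N : Type*} [AddCommGroup N] [Module R N]
    {s : R} (hs : s ∈ S) (h : ∀ m : N, s • m = 0) : Subsingleton (LocalizedModule S N) := by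
  refine subsingleton_of_forall_eq 0 fun z => ?_
  induction z using LocalizedModule.induction_on with
  | h m t =>
    rw [← LocalizedModule.zero_mk (S := S) 1, LocalizedModule.mk_eq]
    refine ⟨⟨s, hs⟩, ?_⟩
    rw [smul_zero, smul_zero, one_smul]
    exact h m

theorem exists_sep {R : Type*} [CommRing R] {I J : Ideal R} (h : I ⊔ J = ⊤) :
    ∃ s ∈ I, s - 1 ∈ J := by
  obtain ⟨a, ha, b, hb, hab⟩ := Submodule.mem_sup.mp (h ▸ Submodule.mem_top : (1 : R) ∈ I ⊔ J)
  refine ⟨a, ha, ?_⟩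
  rw [← hab, sub_add_cancel_left]
  exact neg_mem hb

theorem mem_locSubmonoid_of_sub_mem {B : AddSubgroup M} {s : AddMonoidAlgebra Λ M}
    (h : s - 1 ∈ RingHom.ker (cycQuotMap Λ M B)) : s ∈ locSubmonoid Λ M B := by
  rw [RingHom.mem_ker, map_sub, map_one, sub_eq_zero] at h
  exact h

theorem finite_cyclic_over (B₀ : AddSubgroup M) [B₀.FiniteIndex] :
    Finite {B : AddSubgroup M // B₀ ≤ B ∧ IsAddCyclic (M ⧸ B)} := by
  haveI : Finite (M ⧸ B₀) := AddSubgroup.finite_quotient_of_finiteIndex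
  refine Finite.of_injective (fun B => (B.1.map (QuotientAddGroup.mk' B₀))) fun B B' h => Subtype.ext ?_
  have hc := congrArg (AddSubgroup.comap (QuotientAddGroup.mk' B₀)) h
  rwa [AddSubgroup.comap_map_eq, AddSubgroup.comap_map_eq, QuotientAddGroup.ker_mk', sup_of_le_left B.2.1,
    sup_of_le_left B'.2.1] at hc

theorem isUnit_index {B₀ B : AddSubgroup M} (hle : B₀ ≤ B) (hu : IsUnit (B₀.index : Λ)) : IsUnit (B.index : Λ) :=
  isUnit_cast_of_dvd (RingHom.id Λ) (AddSubgroup.index_dvd_of_le hle) hu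

variable (B₀ : AddSubgroup M) [B₀.FiniteIndex]

theorem pairwise_coprime (hu : IsUnit (B₀.index : Λ)) :
    Pairwise (fun B B' : {B : AddSubgroup M // B₀ ≤ B ∧ IsAddCyclic (M ⧸ B)} =>
      IsCoprime (RingHom.ker (cycQuotMap Λ M B.1)) (RingHom.ker (cycQuotMap Λ M B'.1))) := by
  intro B B' hne
  haveI := B.2.2
  haveI := B'.2.2
  haveI : B.1.FiniteIndex := AddSubgroup.finiteIndex_of_le B.2.1
  haveI : B'.1.FiniteIndex := AddSubgroup.finiteIndex_of_le B'.2.1
  exact Ideal.isCoprime_iff_sup_eq.mpr (sup_ker_eq_top (isUnit_index B.2.1 hu) (isUnit_index B'.2.1 hu)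
    fun h => hne (Subtype.ext h))

theorem exists_forall_sub_mem (hu : IsUnit (B₀.index : Λ))
    (x : {B : AddSubgroup M // B₀ ≤ B ∧ IsAddCyclic (M ⧸ B)} → AddMonoidAlgebra Λ M) :
    ∃ y, ∀ B, y - x B ∈ RingHom.ker (cycQuotMap Λ M B.1) := by
  haveI := finite_cyclic_over B₀
  exact Ideal.exists_forall_sub_mem_ideal (pairwise_coprime B₀ hu) x

theorem bijective_pi_mkLinearMap (hu : IsUnit (B₀.index : Λ)) :
    Function.Bijective (LinearMap.pi (R := AddMonoidAlgebra Λ M)
      fun B : {B : AddSubgroup M // B₀ ≤ B ∧ IsAddCyclic (M ⧸ B)} =>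
        LocalizedModule.mkLinearMap (locSubmonoid Λ M B.1) (AddMonoidAlgebra Λ (M ⧸ B₀))) := by
  classical
  have hle : ∀ B : {B : AddSubgroup M // B₀ ≤ B ∧ IsAddCyclic (M ⧸ B)},
      RingHom.ker (quotMap Λ M B₀) ≤ RingHom.ker (cycQuotMap Λ M B.1) := by
    intro B x hx
    refine ker_quotMap_le B.1 ?_
    rw [RingHom.mem_ker] at hx ⊢
    have hcomp : quotMap Λ M B.1 = (AddMonoidAlgebra.mapDomainRingHom Λ
        (QuotientAddGroup.map B₀ B.1 (AddMonoidHom.id M) B.2.1)).comp (quotMap Λ M B₀) := by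
      rw [quotMap, quotMap, ← AddMonoidAlgebra.mapDomainRingHom_comp]
      rfl
    rw [hcomp, RingHom.comp_apply, hx, map_zero]
  -- the image of a vector in a localisation vanishes if its class in the cyclotomic quotient does
  have hkill : ∀ (B : {B : AddSubgroup M // B₀ ≤ B ∧ IsAddCyclic (M ⧸ B)}) (x : AddMonoidAlgebra Λ M),
      x ∈ RingHom.ker (cycQuotMap Λ M B.1) → ∃ u : locSubmonoid Λ M B.1,
        quotMap Λ M B₀ ((u : AddMonoidAlgebra Λ M) * x) = 0 := by
    intro B x hx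
    obtain ⟨s, hs⟩ := exists_forall_sub_mem B₀ hu (fun B' => if B' = B then 1 else 0)
    have hsB : s ∈ locSubmonoid Λ M B.1 := mem_locSubmonoid_of_sub_mem (by simpa using hs B)
    refine ⟨⟨s, hsB⟩, RingHom.mem_ker.mp (separation B₀ hu fun B' hB' hc => ?_)⟩
    by_cases h : (⟨B', hB', hc⟩ : {B : AddSubgroup M // B₀ ≤ B ∧ IsAddCyclic (M ⧸ B)}) = B
    · subst h; exact Ideal.mul_mem_left _ _ hx
    · have := hs ⟨B', hB', hc⟩
      simp only [h, if_false, sub_zero] at this
      exact Ideal.mul_mem_right _ _ this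
  constructor
  · intro y y' h
    obtain ⟨x, rfl⟩ := quotMap_surjective B₀ y
    obtain ⟨x', rfl⟩ := quotMap_surjective B₀ y'
    rw [← sub_eq_zero, ← map_sub]
    refine RingHom.mem_ker.mp (separation B₀ hu fun B hB hc => ?_)
    have hB' : LocalizedModule.mkLinearMap (locSubmonoid Λ M B) (AddMonoidAlgebra Λ (M ⧸ B₀)) (quotMap Λ M B₀ x) =
        LocalizedModule.mkLinearMap (locSubmonoid Λ M B) _ (quotMap Λ M B₀ x') := congrFun h ⟨B, hB, hc⟩
    rw [LocalizedModule.mkLinearMap_apply, LocalizedModule.mkLinearMap_apply, LocalizedModule.mk_eq] at hB'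
    obtain ⟨u, hu'⟩ := hB'
    rw [one_smul, one_smul] at hu'
    have h1 : quotMap Λ M B₀ ((u : AddMonoidAlgebra Λ M) * (x - x')) = 0 := by
      rw [mul_sub, map_sub, map_mul, map_mul, sub_eq_zero, ← smul_quot, ← smul_quot]
      exact hu'
    have h2 := hle ⟨B, hB, hc⟩ (RingHom.mem_ker.mpr h1)
    rw [RingHom.mem_ker, map_mul, show cycQuotMap Λ M B u = 1 from u.2, one_mul] at h2
    exact RingHom.mem_ker.mpr h2
  · intro f
    have hrep : ∀ B, ∃ x, f B = LocalizedModule.mk (quotMap Λ M B₀ x) 1 := by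
      intro B
      induction f B using LocalizedModule.induction_on with
      | h m t =>
        obtain ⟨x, rfl⟩ := quotMap_surjective B₀ m
        refine ⟨x, ?_⟩
        obtain ⟨u, hu'⟩ := hkill B (((t : AddMonoidAlgebra Λ M) - 1) * x)
          (Ideal.mul_mem_right _ _ (by rw [RingHom.mem_ker, map_sub, map_one, show cycQuotMap Λ M B.1 t = 1 from t.2, sub_self]))
        rw [LocalizedModule.mk_eq]
        refine ⟨u, ?_⟩
        show (u : AddMonoidAlgebra Λ M) • (1 : locSubmonoid Λ M B.1) • quotMap Λ M B₀ x =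
          (u : AddMonoidAlgebra Λ M) • (t : AddMonoidAlgebra Λ M) • quotMap Λ M B₀ x
        rw [one_smul, smul_quot, smul_quot, smul_quot, ← map_mul, ← map_mul, ← map_mul, eq_comm, ← sub_eq_zero, ← map_sub, ← hu']
        exact congrArg _ (by ring)
    choose x hx using hrep
    obtain ⟨y, hy⟩ := exists_forall_sub_mem B₀ hu x
    refine ⟨quotMap Λ M B₀ y, funext fun B => ?_⟩
    rw [LinearMap.pi_apply, LocalizedModule.mkLinearMap_apply, hx, LocalizedModule.mk_eq]
    obtain ⟨u, hu'⟩ := hkill B _ (hy B)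
    refine ⟨u, ?_⟩
    show (u : AddMonoidAlgebra Λ M) • (1 : locSubmonoid Λ M B.1) • quotMap Λ M B₀ y =
      (u : AddMonoidAlgebra Λ M) • (1 : locSubmonoid Λ M B.1) • quotMap Λ M B₀ (x B)
    rw [one_smul, one_smul, smul_quot, smul_quot, ← sub_eq_zero, ← mul_sub, ← map_sub, ← map_mul]
    exact hu'

theorem bijective_pi_cycQuotMap {A : Type v} [AddCommGroup A] [Finite A] (hA : IsUnit (Nat.card A : Λ)) :
    Function.Bijective (RingHom.pi fun B : {B : AddSubgroup A // IsAddCyclic (A ⧸ B)} => cycQuotMap Λ A B.1) := by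
  classical
  haveI : (⊥ : AddSubgroup A).FiniteIndex := inferInstance
  have hu : IsUnit ((⊥ : AddSubgroup A).index : Λ) := by rwa [AddSubgroup.index_bot]
  constructor
  · rw [injective_iff_map_eq_zero]
    intro x hx
    have h := separation ⊥ hu (x := x) fun B _ hc => RingHom.mem_ker.mpr (congrFun hx ⟨B, hc⟩)
    have hinj : Function.Injective (quotMap Λ A ⊥) := by
      refine AddMonoidAlgebra.mapDomain_injective (R := Λ) fun a b hab => ?_
      have h1 : -a + b ∈ (⊥ : AddSubgroup A) := QuotientAddGroup.eq.mp hab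
      exact neg_add_eq_zero.mp (AddSubgroup.mem_bot.mp h1)
    exact hinj ((RingHom.mem_ker.mp h).trans (map_zero (quotMap Λ A ⊥)).symm)
  · intro f
    choose x hx using fun B : {B : AddSubgroup A // IsAddCyclic (A ⧸ B)} => cycQuotMap_surjective (Λ := Λ) B.1 (f B)
    obtain ⟨y, hy⟩ := exists_forall_sub_mem (⊥ : AddSubgroup A) hu fun B => x ⟨B.1, B.2.2⟩
    refine ⟨y, funext fun B => ?_⟩
    have h := RingHom.mem_ker.mp (hy ⟨B.1, bot_le, B.2⟩)
    rw [map_sub, sub_eq_zero] at h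
    exact h.trans (hx B)

end

end Groth.Agent.H20Cyc
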